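import Groth.Agent.AlgStLib.Rows3
import Groth.Agent.AlgStLib.LocQ6
import Groth.Agent.AlgStLib.UnivTop
import Groth.Agent.AlgSpMiscLib.Surj
import Groth.Agent.S12831
import Groth.Agent.S10536

/-!
# Cancellation of separatedness on the left
-/

set_option autoImplicit false
set_option linter.style.haveILetI false
set_option backward.isDefEq.respectTransparency false
set_option backward.isDefEq.respectTransparency.types false

universe u

open CategoryTheory CategoryTheory.Limits AlgebraicGeometry AlgSp FibCat FibLib AlgStLib AlgSpLib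

noncomputable section

namespace SepCancelLib

variable {S : Scheme.{u}} {𝒳 𝒴 𝒵 : AlgSt.Cat S}

lemma isLocalOnBase_fppf_univClosed :
    IsLocalOnBase IsFppfCover (IsUnivClosedMor : MorphismProperty (Sp S)) :=
  isLocalOnBase_fppf_of_fpqc (isLocalOnBase_fpqc_univSp S descends_isClosedMor qdescends_isClosedMor)

lemma good_univClosed : Good (IsUnivClosedMor : MorphismProperty (Sp S)) :=
  ⟨fun _ _ _ _ _ _ _ _ _ _ _ _ sq h => univSp_of_isPullback sq h, compSp_univClosed,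
    schTest_of_fppf isLocalOnBase_fppf_univClosed⟩

/-- Properness descends along surjective universally closed morphisms. -/
theorem repByAlgSpWith_proper_of_comp [IsFibGrpd 𝒳.p] [IsFibGrpd 𝒴.p] {F : 𝒳 ⥤ᵇ 𝒴} {G : 𝒴 ⥤ᵇ 𝒵}
    (hF₁ : AlgSt.RepByAlgSpWith IsSurjectiveMor F) (hF₂ : AlgSt.RepByAlgSpWith IsUnivClosedMor F)
    (hG : AlgSt.RepByAlgSpWith (LocP @LocallyOfFiniteType) G)
    (hFG : AlgSt.RepByAlgSpWith IsProperMor (BasedFunctor.comp F G)) :
    AlgSt.RepByAlgSpWith IsProperMor G := by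
  rw [repByAlgSpWith_iff] at hG ⊢
  intro U u
  obtain ⟨H, c, hH, hc, hlft⟩ := hG U u
  obtain ⟨v, hv⟩ := Along.comp (f := F) hc
  obtain ⟨K, d, hK, hd, hd₁⟩ := exists_along_test good_surjective.bc good_surjective.test hF₁ hH v
  have hd₂ : IsUnivClosedMor d := by
    obtain ⟨K', d', hK', hd', hd₂'⟩ := exists_along_test good_univClosed.bc good_univClosed.test hF₂ hH v
    obtain ⟨i, hi⟩ := along_hom_unique hd hd'
    rw [← hi]
    exact good_univClosed.bc.precomp_iso i d' hK' hH hd₂'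
  have hp : IsProperMor (d ≫ c) := prop_of_along good_proper.bc.precomp_iso hFG (hv d.hom hd)
  have hU := IsAlgSpace.yon_obj (S := S) U
  exact ⟨H, c, hH, hc, (AlgSpMiscLib.diagonal_of_surjective_univClosed hK hH hU hd₁ hd₂).2 hp.1,
    ⟨hlft, AlgSpMiscLib.isQuasiCompactMor_of_surjective hH hU hd₁ hp.2.1.2⟩,
    isUnivClosedMor_of_surjective hK hH hU hd₁ hp.2.2⟩

theorem isSeparatedMor_of_comp (h𝒳 : AlgSt.IsAlgStack Scheme.fppfPrecoverage 𝒳)
    (h𝒴 : AlgSt.IsAlgStack Scheme.fppfPrecoverage 𝒴) (h𝒵 : AlgSt.IsAlgStack Scheme.fppfPrecoverage 𝒵)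
    (f : 𝒳 ⥤ᵇ 𝒴) (g : 𝒴 ⥤ᵇ 𝒵)
    (hf₁ : AlgSt.IsSurjective f) (hf₂ : AlgSt.LocQ (LocP @Flat) f)
    (hf₃ : AlgSt.LocQ (LocP @LocallyOfFinitePresentation) f)
    (hf₄ : AlgSt.IsUnivInjective Scheme.fppfPrecoverage f)
    (hf₅ : AlgSt.RepByAlgSpWith IsUnivClosedMor (diag f))
    (hh : AlgSt.IsSeparatedMor (BasedFunctor.comp f g)) : AlgSt.IsSeparatedMor g := by
  haveI := isFibGrpd_of_isAlgStack h𝒳
  haveI := isFibGrpd_of_isAlgStack h𝒴
  haveI := isFibGrpd_of_isAlgStack h𝒵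
  obtain ⟨U, x, -, w₁, w₂, w₃⟩ := exists_space_cover h𝒴 h𝒳 f hf₂ hf₃ hf₁
  haveI : IsFibGrpd (AlgSt.ofSch U).p := Stk.isFibGrpd_ofPsh _
  let w := BasedFunctor.comp x f
  have hdf : AlgSt.RepByAlgSpWith IsSurjectiveMor (diag f) := by
    haveI : IsFibGrpd (fp f f).p := isFibGrpd_fp
    exact (surjective_iff_repByAlgSpWith (repByAlgSp1_diag h𝒳 h𝒴 f)).mp
      ((Groth.Agent.S12831.result h𝒳 h𝒴 f).mp hf₄)
  haveI : IsFibGrpd (fp x x).p := isFibGrpd_fp
  haveI : IsFibGrpd (fp w w).p := isFibGrpd_fp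
  haveI : IsFibGrpd (fp g g).p := isFibGrpd_fp
  haveI : IsFibGrpd (fp (BasedFunctor.comp w g) (BasedFunctor.comp w g)).p := isFibGrpd_fp
  have hlft := repByAlgSpWith_lft_diag h𝒴 h𝒵 g
  -- the morphism `U ×_Y U ⟶ U ×_Z U`
  have hb : AlgSt.RepByAlgSpWith IsProperMor (fpPush w w g) := by
    refine repByAlgSpWith_proper_of_comp (F := fpPush x x f) (repByAlgSpWith_fpPush x x f hdf)
      (repByAlgSpWith_fpPush x x f hf₅) (repByAlgSpWith_fpPush w w g hlft) ?_
    refine repByAlgSpWith_congr (f := fpPush x x (BasedFunctor.comp f g)) ?_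
      (repByAlgSpWith_fpPush x x (BasedFunctor.comp f g) hh)
    exact fpIsoExt _ _ (Iso.refl _) (Iso.refl _) fun y => by
      change g.map (f.map (x.map (𝟙 _))) ≫ g.map (f.map y.obj.iso.hom) =
        g.map (f.map y.obj.iso.hom) ≫ g.map (f.map (x.map (𝟙 _)))
      simp
  have hb' : AlgSt.RepByAlgSpWith IsProperMor (FibCat.fpFst (fpPair w w g) (diag g)) :=
    (repByAlgSpWith_square_iff (f := FibCat.fpFst (fpPair w w g) (diag g)) (f' := fpPush w w g)
      (b := BasedFunctor.id _) (isEquivOver_fpMagic w w g) (isEquivOver_id _) (Iso.refl _) IsProperMor).mpr hb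
  exact repByAlgSpWith_of_fppf_cover good_proper.bc (isLocalOnBase_fppf_of_fpqc (Groth.Agent.S10536.result S))
    (repByAlgSp1_diag h𝒴 h𝒵 g) (repByAlgSpWith_pairBoth w w g g (good_locP _) w₁ w₁)
    (repByAlgSpWith_pairBoth w w g g (good_locP _) w₂ w₂)
    (repByAlgSpWith_pairBoth w w g g good_surjective w₃ w₃) hb'

end SepCancelLib
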